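import Cfsg.Agent.SporadicRecognition.CosetCert

-- merged: Cfsg.Agent.KFacts.MulP.MTtAData
section

set_option autoImplicit false
set_option maxRecDepth 100000

namespace Cfsg.Agent.KFacts.MulP.MTtAData

open Cfsg.Agent.SporadicRecognition.CosetCert

noncomputable def tree : Tr := (.N 16 (.L 0xfffcbd03040b4833447fff2c38a476c7da1e2fffc9c72b3d89d5e70ffff26308c6586d51a2fffc84625353994a60ffff2028745465d1162fffc6c51f2cf953c50ffff1a205c4384cd922fffc5441924c912e40ffff2a3ca0e14184430fffc90d22303c3131c7fff1e2c70a0e102c20fffc60916202420d147fff0808141121c4062fffc0c1070c3050a10ffff060c1020204041f) (.N 32 (.L 0xfffdc5174620e39298ffff6f7dc1f6e79acf0fffe3656a5d9cf6d7c7fff818d994647184e0fffdee2604d74e63747fff77857125a695cd0fffd59a55694cd596c7fff8791496506134c0fffdce04c4524c4f647fff697a325485914b0fffd45986910cb475c7fff42550554050f4a0fffd95d808ceca3f547fff5f71ea23a48dc90fffd6db7684d49394c7fff4b61ca03440c480) (.L 0xfffe6e69e9e7e8a0a0ffff9da26a695866251fffe6679ca2460948c7fff8b5e39e979e4213fffe15688662a48990ffff7f5209d939a1203fffde537c71f627e88ffff7549e1b8f965a73)))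

noncomputable def wtree : WT := (.N 8 (.N 4 (.N 2 (.N 1 (.L 2 [3,3]) (.L 0 [1,1])) (.N 3 (.L 3 [1,3,1,3,1,2,0,2,0]) (.L 2 [0,3,0,3,1,2,1,2,1]))) (.N 6 (.N 5 (.L 3 [0,3,1,3,1,3,0,2,0]) (.L 3 [1,2,0,3,0,3,0,2,1])) (.N 7 (.L 2 [1,2,1,2,1,3,0,3,0]) (.L 3 [1,2,1,3,0,3,0,3,1])))) (.N 12 (.N 10 (.N 9 (.L 3 [0,2,1,3,1,3,1,2,0]) (.L 3 [1,3,0,3,0,3,1,2,1])) (.N 11 (.L 3 [0,2,0,3,1,3,1,3,0]) (.L 3 [0,2,0,2,1,3,1,3,1]))) (.N 14 (.N 13 (.L 3 [2,2]) (.L 1 [2,0,2,1,3,1,3,1,2])) (.N 15 (.L 0 [3,0,3,0,3,1,2,1,2]) (.L 1 [0,0])))))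

noncomputable def stree : ST := (.L 0 [] [])

noncomputable def C : Cert where
  data := tree
  lm := 15
  rb := 74
  fb := 14
  mask := 16383
  B := 64
  k := 4
  N := 40
  inv := fun x => bif Nat.beq x 0 then 1 else bif Nat.beq x 1 then 0 else bif Nat.beq x 2 then 3 else bif Nat.beq x 3 then 2 else x
  words := wtree
  subs := stree

def rels : List (List Nat) := [[0,0,0], [2,2,2], [0,2,0,2,0,3,1,3,1,3], [0,2,1,2,1,2,0,3,0,3]]

def subw : List (List Nat) := [[0]]

end Cfsg.Agent.KFacts.MulP.MTtAData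

end

-- merged: Cfsg.Agent.KFacts.MulP.MTtAChk0
section

set_option autoImplicit false
set_option maxRecDepth 100000

namespace Cfsg.Agent.KFacts.MulP.MTtAChk0

open Cfsg.Agent.SporadicRecognition.CosetCert Cfsg.Agent.KFacts.MulP.MTtAData

theorem c0 : Part C 0 40 40 := runChunk_sound C 40 (by decide +kernel : runChunk C 8 255 0x102d302c3020102a30201020102f302010202e30102f3020102d3020102d3020102d302b3020201c3020113c3020201c3020113c302020102630113c3020201c3020113a302020153020113023302019302011383020201730201134302020123020113020102020103020202010202010302020201020201030202020102020103020202020201020201130202020102020113020102020103020202020205 1 1 0 0 40 = 41)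

theorem all : Part C 0 40 40 := c0

end Cfsg.Agent.KFacts.MulP.MTtAChk0

end

-- merged: Cfsg.Agent.KFacts.MulP.MTtAAll
section

set_option autoImplicit false
set_option maxRecDepth 100000

namespace Cfsg.Agent.KFacts.MulP.MTtAAll

open Cfsg.Agent.SporadicRecognition.CosetCert Cfsg.Agent.KFacts.MulP.MTtAData

theorem part : Part C 0 C.N 40 := Cfsg.Agent.KFacts.MulP.MTtAChk0.all

end Cfsg.Agent.KFacts.MulP.MTtAAll

end
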